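import Groth.Agent.EtDepth.K343.Tri
import Groth.Agent.Sga4h.H299.Exc
import Groth.Agent.Sga4h.X144Shr

/-!
# The part of a complex of sheaves of modules on an open subscheme, extended by zero

`eo v F = v_! v^* F` for an open immersion `v`.

* `shortExact_exc`: `0 ⟶ v_! v^* F ⟶ F ⟶ b_* b^* F ⟶ 0`;
* `mvC`: Mayer-Vietoris for the vanishing of `Hom(A₀, C[i])`, `C` a complex;
* `van_iSup`: from affine opens to unions of affine opens.
-/

set_option autoImplicit false
universe u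

open CategoryTheory CategoryTheory.Limits AlgebraicGeometry Opposite
attribute [local instance] HasDerivedCategory.standard

namespace K343.ExtOpen

open Groth.Agent.Sga4h.ModRestr Groth.Agent.Sga4h.EtaleRes Groth.Agent.Sga4h.LFinSupp
  Groth.Agent.Sga4h.LFinPull Groth.Agent.Etcore.LVan Groth.Agent.Etcore.LPull K343.LefTri
open Groth.Agent.Sga4h (X144Shr.ext_local_zero X144Shr.isIso_res_counit X144Shr.mono_counit)

variable {Λ : Type (u + 1)} [CommRing Λ] {X : Scheme.{u}}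

attribute [local instance] jCont

section basic

variable {U : Scheme.{u}} (v : U ⟶ X) [IsOpenImmersion v]

variable (Λ) in
/-- `v_! v^*` -/
noncomputable abbrev eo : EtModW.Mod Λ X ⥤ EtModW.Mod Λ X :=
  Groth.Agent.Sga4h.ModRestr.res Λ v ⋙ Groth.Agent.Sga4h.ModRestr.ext Λ v

variable (Λ) in
/-- `v_! v^* F ⟶ F` -/
noncomputable abbrev ε : eo Λ v ⟶ 𝟭 (EtModW.Mod Λ X) := (extResAdj Λ v).counit

theorem zeroOff_ext (B : EtModW.Mod Λ U) :
    ZeroOff ((Groth.Agent.Sga4h.ModRestr.ext Λ v).obj B) (Set.range v) := by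
  intro W s w hw
  obtain ⟨V, g, ⟨x, hx⟩, h⟩ := Groth.Agent.Sga4h.X144Shr.ext_local_zero Λ v B W s w hw
  rw [← hx]
  exact Van.of_res g x (van_zero_of_eq h x)

theorem isZero_pull_ext (B : EtModW.Mod Λ U) {T : Scheme.{u}} (f : T ⟶ X)
    (hf : ∀ t, f t ∉ Set.range v) :
    IsZero ((EtModW.pull Λ f).obj ((Groth.Agent.Sga4h.ModRestr.ext Λ v).obj B)) :=
  (zeroOff_ext v B).isZero_pull f hf

/-- Inverse image of a morphism which is an isomorphism over the open subscheme. -/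
theorem isIso_pull_of_res {F G : EtModW.Mod Λ X} (φ : F ⟶ G)
    (h : IsIso ((Groth.Agent.Sga4h.ModRestr.res Λ v).map φ)) {T : Scheme.{u}} (f : T ⟶ X)
    (hf : Set.range f ⊆ Set.range v) : IsIso ((EtModW.pull Λ f).map φ) := by
  have h1 : IsIso ((EtModW.pull Λ v).map φ) :=
    (NatIso.isIso_map_iff (Groth.Agent.Sga4h.H299.ExtBC.resPull Λ v) φ).2 h
  have h2 : IsIso ((EtModW.pull Λ v ⋙ EtModW.pull Λ (IsOpenImmersion.lift v f hf)).map φ) := by
    rw [Functor.comp_map]
    infer_instance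
  have h3 := (NatIso.isIso_map_iff (Groth.Agent.Etcore.LPullComp.pullComp Λ
    (IsOpenImmersion.lift v f hf) v) φ).1 h2
  rwa [IsOpenImmersion.lift_fac] at h3

theorem isIso_pull_ε (F : EtModW.Mod Λ X) {T : Scheme.{u}} (f : T ⟶ X)
    (hf : Set.range f ⊆ Set.range v) : IsIso ((EtModW.pull Λ f).map ((ε Λ v).app F)) :=
  isIso_pull_of_res v _ (Groth.Agent.Sga4h.X144Shr.isIso_res_counit Λ v F) f hf

/-- Isomorphisms after inverse image are detected at the points. -/
theorem isIso_pull_of_forall {Z : Scheme.{u}} (b : Z ⟶ X) {F G : EtModW.Mod Λ X} (φ : F ⟶ G)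
    (h : ∀ z : Z, IsIso ((EtModW.pull Λ (Z.fromSpecResidueField z ≫ b)).map φ)) :
    IsIso ((EtModW.pull Λ b).map φ) := by
  refine isIso_of_pull (fun z : Z => Z.fromSpecResidueField z) (fun z => ⟨z, ?_⟩) _ fun z => ?_
  · rw [Scheme.range_fromSpecResidueField]
    rfl
  · exact (NatIso.isIso_map_iff (Groth.Agent.Etcore.LPullComp.pullComp Λ
      (Z.fromSpecResidueField z) b) φ).2 (h z)

theorem isIso_of_forall {F G : EtModW.Mod Λ X} (φ : F ⟶ G)
    (h : ∀ y : X, IsIso ((EtModW.pull Λ (X.fromSpecResidueField y)).map φ)) : IsIso φ := by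
  refine isIso_of_pull (fun y : X => X.fromSpecResidueField y) (fun y => ⟨y, ?_⟩) _ h
  rw [Scheme.range_fromSpecResidueField]
  rfl

theorem isIso_ε_of_zeroOff (F : EtModW.Mod Λ X) (hF : ZeroOff F (Set.range v)) :
    IsIso ((ε Λ v).app F) := by
  refine isIso_of_forall _ fun y => ?_
  by_cases hy : y ∈ Set.range v
  · refine isIso_pull_ε v F _ ?_
    rw [Scheme.range_fromSpecResidueField]
    exact Set.singleton_subset_iff.2 hy
  · have h0 : ∀ t, (X.fromSpecResidueField y) t ∉ Set.range v := by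
      intro t
      have : (X.fromSpecResidueField y) t = y := by
        have := Set.mem_range_self (f := X.fromSpecResidueField y) t
        rwa [Scheme.range_fromSpecResidueField] at this
      rwa [this]
    have h1 := isZero_pull_ext v ((Groth.Agent.Sga4h.ModRestr.res Λ v).obj F)
      (X.fromSpecResidueField y) h0
    have h2 := hF.isZero_pull (X.fromSpecResidueField y) h0
    exact h1.isIso h2 _

/-- Pull-back of `φ` is an isomorphism over the open subscheme. -/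
theorem isIso_eo_map {F G : EtModW.Mod Λ X} (φ : F ⟶ G)
    (h : IsIso ((EtModW.pull Λ v).map φ)) : IsIso ((eo Λ v).map φ) := by
  have h1 : IsIso ((Groth.Agent.Sga4h.ModRestr.res Λ v).map φ) :=
    (NatIso.isIso_map_iff (Groth.Agent.Sga4h.H299.ExtBC.resPull Λ v) φ).1 h
  rw [Functor.comp_map]
  infer_instance

end basic

section exc

/-- The closed complement of an open immersion. -/
theorem exists_compl {V : Scheme.{u}} (v : V ⟶ X) [IsOpenImmersion v] :
    ∃ (Z : Scheme.{u}) (i : Z ⟶ X), IsClosedImmersion i ∧ Set.range v = (Set.range i)ᶜ := by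
  let C : TopologicalSpace.Closeds X :=
    ⟨(Set.range v)ᶜ, (IsOpenImmersion.isOpen_range v).isClosed_compl⟩
  refine ⟨_, (Scheme.IdealSheafData.vanishingIdeal C).subschemeι, inferInstance, ?_⟩
  rw [Scheme.IdealSheafData.range_subschemeι, Scheme.IdealSheafData.coe_support_vanishingIdeal]
  exact (compl_compl _).symm

variable {U Z : Scheme.{u}} (v : U ⟶ X) [IsOpenImmersion v] (b : Z ⟶ X) [IsClosedImmersion b]

variable (Λ) in
/-- `b_* b^*` -/
noncomputable abbrev cb : EtModW.Mod Λ X ⥤ EtModW.Mod Λ X := EtModW.pull Λ b ⋙ EtModW.push Λ b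

variable (Λ) in
/-- `F ⟶ b_* b^* F` -/
noncomputable abbrev ηb : 𝟭 (EtModW.Mod Λ X) ⟶ cb Λ b := (Groth.Agent.Etrest.ModAb.pullPushAdj Λ b).unit

omit [IsClosedImmersion b] in
theorem exc_zero (hr : Set.range v = (Set.range b)ᶜ) (F : EtModW.Mod Λ X) :
    (ε Λ v).app F ≫ (ηb Λ b).app F = 0 := by
  have h0 : IsZero ((cb Λ b).obj ((eo Λ v).obj F)) := by
    refine (EtModW.push Λ b).map_isZero (isZero_pull_ext v _ b fun t ht => ?_)
    rw [hr] at ht
    exact ht ⟨t, rfl⟩
  have h1 : (ε Λ v).app F ≫ (ηb Λ b).app F =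
      (ηb Λ b).app ((eo Λ v).obj F) ≫ (cb Λ b).map ((ε Λ v).app F) :=
    (ηb Λ b).naturality ((ε Λ v).app F)
  rw [h1, h0.eq_of_tgt ((ηb Λ b).app ((eo Λ v).obj F)) 0, zero_comp]

theorem shortExact_exc (hr : Set.range v = (Set.range b)ᶜ) (F : EtModW.Mod Λ X) :
    (ShortComplex.mk ((ε Λ v).app F) ((ηb Λ b).app F) (exc_zero v b hr F)).ShortExact := by
  let K₁ : EtModW.Mod Λ X := (closedSeq b F).X₁
  let f' : K₁ ⟶ F := (closedSeq b F).f
  have h1 : IsIso ((ε Λ v).app K₁) := Groth.Agent.Sga4h.H299.Exc.isIso_counit_closedSeq v b hr F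
  have h2 : IsIso ((eo Λ v).map f') := isIso_eo_map v _ (isIso_pull_closedSeq b F v fun z hz => by
    have : v z ∈ Set.range v := ⟨z, rfl⟩
    rw [hr] at this
    exact this hz)
  have nat : (eo Λ v).map f' ≫ (ε Λ v).app F = (ε Λ v).app K₁ ≫ f' := (ε Λ v).naturality f'
  refine ShortComplex.shortExact_of_iso (ShortComplex.isoMk
    ((@asIso _ _ _ _ _ h1).symm ≪≫ (@asIso _ _ _ _ _ h2)) (Iso.refl _) (Iso.refl _) ?_ ?_)
    (closedSeq_shortExact b F)
  · refine (?_ : (inv ((ε Λ v).app K₁) ≫ (eo Λ v).map f') ≫ (ε Λ v).app F = f' ≫ 𝟙 F)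
    rw [Category.assoc, nat, IsIso.inv_hom_id_assoc, Category.comp_id]
  · exact (Category.id_comp _).trans (Category.comp_id _).symm

end exc

section isoOn

/-- `φ` is an isomorphism over the points of `S`. -/
def IsoOn {F G : EtModW.Mod Λ X} (φ : F ⟶ G) (S : Set X) : Prop :=
  ∀ ⦃T : Scheme.{u}⦄ (f : T ⟶ X), Set.range f ⊆ S → IsIso ((EtModW.pull Λ f).map φ)

variable {F G : EtModW.Mod Λ X} {φ : F ⟶ G} {S S' : Set X}

theorem IsoOn.mono (h : IsoOn φ S) (hS : S' ⊆ S) : IsoOn φ S' := fun _ f hf => h f (hf.trans hS)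

theorem range_fromSpec_comp {T : Scheme.{u}} (f : T ⟶ X) (t : T) :
    Set.range (T.fromSpecResidueField t ≫ f) = {f t} := by
  have h1 : Set.range (T.fromSpecResidueField t) = {t} := Scheme.range_fromSpecResidueField t
  ext y
  constructor
  · rintro ⟨s, rfl⟩
    have h2 : (T.fromSpecResidueField t) s ∈ ({t} : Set T) := h1 ▸ ⟨s, rfl⟩
    rw [Scheme.Hom.comp_apply, Set.mem_singleton_iff.1 h2]
    rfl
  · rintro rfl
    have h2 : t ∈ Set.range (T.fromSpecResidueField t) := h1 ▸ rfl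
    obtain ⟨s, hs⟩ := h2
    exact ⟨s, by rw [Scheme.Hom.comp_apply, hs]⟩

theorem IsoOn.union (h : IsoOn φ S) (h' : IsoOn φ S') : IsoOn φ (S ∪ S') := by
  intro T f hf
  refine isIso_pull_of_forall f φ fun t => ?_
  rcases hf ⟨t, rfl⟩ with ht | ht
  · refine h _ ?_
    rw [range_fromSpec_comp]
    exact Set.singleton_subset_iff.2 ht
  · refine h' _ ?_
    rw [range_fromSpec_comp]
    exact Set.singleton_subset_iff.2 ht

theorem IsoOn.isIso (h : IsoOn φ Set.univ) : IsIso φ :=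
  isIso_of_forall φ fun _ => h _ (Set.subset_univ _)

theorem isoOn_of_zeroOff (hF : ZeroOff F S) (hG : ZeroOff G S) : IsoOn φ Sᶜ := fun _ f hf =>
  (hF.isZero_pull f fun t => hf ⟨t, rfl⟩).isIso (hG.isZero_pull f fun t => hf ⟨t, rfl⟩) _

variable {U Z : Scheme.{u}} (v : U ⟶ X) [IsOpenImmersion v] (b : Z ⟶ X)

theorem isoOn_ε (F : EtModW.Mod Λ X) : IsoOn ((ε Λ v).app F) (Set.range v) :=
  fun _ f hf => isIso_pull_ε v F f hf

theorem IsoOn.eo (h : IsoOn φ S) : IsoOn ((eo Λ v).map φ) (S ∩ Set.range v) := by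
  intro T f hf
  have h1 := isIso_pull_ε v F f (hf.trans Set.inter_subset_right)
  have h2 := isIso_pull_ε v G f (hf.trans Set.inter_subset_right)
  have h3 := h f (hf.trans Set.inter_subset_left)
  have nat : (EtModW.pull Λ f).map ((K343.ExtOpen.eo Λ v).map φ) ≫
      (EtModW.pull Λ f).map ((ε Λ v).app G) =
      (EtModW.pull Λ f).map ((ε Λ v).app F) ≫ (EtModW.pull Λ f).map φ := by
    rw [← Functor.map_comp, ← Functor.map_comp]
    exact congrArg _ ((ε Λ v).naturality φ)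
  have h4 : IsIso ((EtModW.pull Λ f).map ((K343.ExtOpen.eo Λ v).map φ) ≫
      (EtModW.pull Λ f).map ((ε Λ v).app G)) := by
    rw [nat]
    infer_instance
  exact IsIso.of_isIso_comp_right _ ((EtModW.pull Λ f).map ((ε Λ v).app G))

theorem isoOn_eo_compl : IsoOn ((eo Λ v).map φ) (Set.range v)ᶜ :=
  isoOn_of_zeroOff (zeroOff_ext v _) (zeroOff_ext v _)

theorem IsoOn.isIso_eo (h : IsoOn φ (Set.range v)) : IsIso ((K343.ExtOpen.eo Λ v).map φ) := by
  refine IsoOn.isIso (((h.eo v).union (isoOn_eo_compl v)).mono ?_)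
  intro y _
  by_cases hy : y ∈ Set.range v
  · exact Or.inl ⟨hy, hy⟩
  · exact Or.inr hy

theorem IsoOn.isIso_cb (h : IsoOn φ (Set.range b)) :
    IsIso ((EtModW.pull Λ b ⋙ EtModW.push Λ b).map φ) := by
  have := h b subset_rfl
  rw [Functor.comp_map]
  infer_instance

end isoOn

section V

variable {U₁ U₂ U₃ U₄ : Scheme.{u}} (v : U₁ ⟶ X) (w : U₂ ⟶ X) (x : U₃ ⟶ X) [IsOpenImmersion v]
  [IsOpenImmersion w] [IsOpenImmersion x]

theorem isIso_comp_left (hx : Set.range x = Set.range v ∩ Set.range w) (F : EtModW.Mod Λ X) :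
    IsIso ((ε Λ v).app ((eo Λ w).obj ((eo Λ x).obj F)) ≫ (ε Λ w).app ((eo Λ x).obj F)) := by
  have h1 : IsIso ((ε Λ w).app ((eo Λ x).obj F)) := isIso_ε_of_zeroOff w _
    ((zeroOff_ext x _).mono (by rw [hx]; exact Set.inter_subset_right))
  have h2 : IsIso ((ε Λ v).app ((eo Λ w).obj ((eo Λ x).obj F))) := isIso_ε_of_zeroOff v _
    (((zeroOff_ext x _).mono (by rw [hx]; exact Set.inter_subset_left)).of_iso
      (asIso ((ε Λ w).app ((eo Λ x).obj F))).symm)
  infer_instance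

theorem isIso_comp_right (hx : Set.range x = Set.range v ∩ Set.range w) (F : EtModW.Mod Λ X) :
    IsIso ((eo Λ v).map ((eo Λ w).map ((ε Λ x).app F))) := by
  refine IsoOn.isIso_eo v ?_
  refine (((isoOn_ε x F).eo w).union (isoOn_eo_compl w)).mono fun y hy => ?_
  by_cases hw : y ∈ Set.range w
  · exact Or.inl ⟨by rw [hx]; exact ⟨hy, hw⟩, hw⟩
  · exact Or.inr hw

variable (A₀ : DerivedCategory (EtModW.Mod Λ X)) (C : CochainComplex (EtModW.Mod Λ X) ℤ)

/-- `Hom(A₀, v_! v^* w_! w^* C[i]) = 0` if and only if `Hom(A₀, x_! x^* C[i]) = 0`. -/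
theorem V_comp (hx : Set.range x = Set.range v ∩ Set.range w) (i : ℤ) :
    V A₀ (DerivedCategory.Q.obj (((eo Λ w ⋙ eo Λ v).mapHomologicalComplex (ComplexShape.up ℤ)).obj C)) i ↔
    V A₀ (DerivedCategory.Q.obj (((eo Λ x).mapHomologicalComplex (ComplexShape.up ℤ)).obj C)) i := by
  let γ₁ : eo Λ x ⋙ eo Λ w ⋙ eo Λ v ⟶ eo Λ x :=
    { app := fun F => (ε Λ v).app ((eo Λ w).obj ((eo Λ x).obj F)) ≫ (ε Λ w).app ((eo Λ x).obj F)
      naturality := fun F G φ => by
        have h1 := (ε Λ w).naturality ((eo Λ x).map φ)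
        have h2 := (ε Λ v).naturality ((eo Λ w).map ((eo Λ x).map φ))
        dsimp only [Functor.comp_map, Functor.id_map, Functor.comp_obj, Functor.id_obj] at h1 h2 ⊢
        rw [← Category.assoc, h2, Category.assoc, h1, Category.assoc] }
  let γ₂ : eo Λ x ⋙ eo Λ w ⋙ eo Λ v ⟶ eo Λ w ⋙ eo Λ v :=
    { app := fun F => (eo Λ v).map ((eo Λ w).map ((ε Λ x).app F))
      naturality := fun F G φ => by
        have h1 := (ε Λ x).naturality φ
        exact ((eo Λ w ⋙ eo Λ v).map_comp _ _).symm.trans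
          ((congrArg (fun t => (eo Λ w ⋙ eo Λ v).map t) h1).trans ((eo Λ w ⋙ eo Λ v).map_comp _ _)) }
  rw [← V.of_natTrans γ₁ C (fun q => isIso_comp_left v w x hx (C.X q)) A₀ i]
  exact (V.of_natTrans γ₂ C (fun q => isIso_comp_right v w x hx (C.X q)) A₀ i).symm

end V

section mv

variable {L O' O P Z : Scheme.{u}} (l : L ⟶ X) (o' : O' ⟶ X) (o : O ⟶ X) (x : P ⟶ X)
  [IsOpenImmersion l] [IsOpenImmersion o'] [IsOpenImmersion o] [IsOpenImmersion x]
  (A₀ : DerivedCategory (EtModW.Mod Λ X)) (C : CochainComplex (EtModW.Mod Λ X) ℤ)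

/-- Closed-open sequence for the part of a complex on an open. -/
theorem V_mid (b : Z ⟶ X) [IsClosedImmersion b] (hr : Set.range l = (Set.range b)ᶜ) (i : ℤ)
    (h1 : V A₀ (DerivedCategory.Q.obj
      (((eo Λ o ⋙ eo Λ l).mapHomologicalComplex (ComplexShape.up ℤ)).obj C)) i)
    (h2 : V A₀ (DerivedCategory.Q.obj
      (((eo Λ o ⋙ cb Λ b).mapHomologicalComplex (ComplexShape.up ℤ)).obj C)) i) :
    V A₀ (DerivedCategory.Q.obj (((eo Λ o).mapHomologicalComplex (ComplexShape.up ℤ)).obj C)) i :=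
  mid_of_ses (scOf_shortExact (Functor.whiskerLeft (eo Λ o) (ε Λ l)) (Functor.whiskerLeft (eo Λ o) (ηb Λ b))
    (fun F => exc_zero l b hr ((eo Λ o).obj F)) C
    (fun q => shortExact_exc l b hr ((eo Λ o).obj (C.X q)))) h1 h2

theorem V_right (b : Z ⟶ X) [IsClosedImmersion b] (hr : Set.range l = (Set.range b)ᶜ) (i : ℤ)
    (h1 : V A₀ (DerivedCategory.Q.obj
      (((eo Λ o ⋙ eo Λ l).mapHomologicalComplex (ComplexShape.up ℤ)).obj C)) (i + 1))
    (h2 : V A₀ (DerivedCategory.Q.obj (((eo Λ o).mapHomologicalComplex (ComplexShape.up ℤ)).obj C)) i) :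
    V A₀ (DerivedCategory.Q.obj
      (((eo Λ o ⋙ cb Λ b).mapHomologicalComplex (ComplexShape.up ℤ)).obj C)) i :=
  right_of_ses (scOf_shortExact (Functor.whiskerLeft (eo Λ o) (ε Λ l)) (Functor.whiskerLeft (eo Λ o) (ηb Λ b))
    (fun F => exc_zero l b hr ((eo Λ o).obj F)) C
    (fun q => shortExact_exc l b hr ((eo Λ o).obj (C.X q)))) h2 h1

omit [IsOpenImmersion l] in
/-- The closed complement `b` of `l` meets `o` in `o'`. -/
theorem V_cb (b : Z ⟶ X) [IsClosedImmersion b] (hr : Set.range l = (Set.range b)ᶜ)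
    (ho : Set.range o = Set.range l ∪ Set.range o') (i : ℤ) :
    V A₀ (DerivedCategory.Q.obj
      (((eo Λ o' ⋙ cb Λ b).mapHomologicalComplex (ComplexShape.up ℤ)).obj C)) i ↔
    V A₀ (DerivedCategory.Q.obj
      (((eo Λ o ⋙ cb Λ b).mapHomologicalComplex (ComplexShape.up ℤ)).obj C)) i := by
  let γ₁ : (eo Λ o ⋙ eo Λ o') ⋙ cb Λ b ⟶ eo Λ o' ⋙ cb Λ b :=
    Functor.whiskerRight (Functor.whiskerRight (ε Λ o) (eo Λ o')) (cb Λ b)
  let γ₂ : (eo Λ o ⋙ eo Λ o') ⋙ cb Λ b ⟶ eo Λ o ⋙ cb Λ b :=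
    Functor.whiskerRight (Functor.whiskerLeft (eo Λ o) (ε Λ o')) (cb Λ b)
  have ho' : Set.range o' ⊆ Set.range o := by rw [ho]; exact Set.subset_union_right
  have h1 : ∀ q, IsIso (γ₁.app (C.X q)) := fun q => by
    change IsIso ((cb Λ b).map ((eo Λ o').map ((ε Λ o).app (C.X q))))
    have : IsIso ((eo Λ o').map ((ε Λ o).app (C.X q))) := IsoOn.isIso_eo o'
      ((isoOn_ε o (C.X q)).mono ho')
    infer_instance
  have h2 : ∀ q, IsIso (γ₂.app (C.X q)) := fun q => by
    change IsIso ((cb Λ b).map ((ε Λ o').app ((eo Λ o).obj (C.X q))))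
    have h3 : IsoOn ((ε Λ o').app ((eo Λ o).obj (C.X q))) (Set.range o)ᶜ :=
      isoOn_of_zeroOff ((zeroOff_ext o' _).mono ho') (zeroOff_ext o _)
    refine IsoOn.isIso_cb b (((isoOn_ε o' _).union h3).mono fun y hy => ?_)
    by_cases h : y ∈ Set.range o'
    · exact Or.inl h
    · refine Or.inr fun h2 => ?_
      rw [ho] at h2
      rcases h2 with h2 | h2
      · rw [hr] at h2
        exact h2 hy
      · exact h h2
  rw [← V.of_natTrans γ₁ C h1 A₀ i]
  exact V.of_natTrans γ₂ C h2 A₀ i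

/-- **Mayer-Vietoris.** -/
theorem mvC (ho : Set.range o = Set.range l ∪ Set.range o')
    (hx : Set.range x = Set.range l ∩ Set.range o') (i : ℤ)
    (h1 : V A₀ (DerivedCategory.Q.obj (((eo Λ l).mapHomologicalComplex (ComplexShape.up ℤ)).obj C)) i)
    (h2 : V A₀ (DerivedCategory.Q.obj (((eo Λ o').mapHomologicalComplex (ComplexShape.up ℤ)).obj C)) i)
    (h3 : V A₀ (DerivedCategory.Q.obj
      (((eo Λ x).mapHomologicalComplex (ComplexShape.up ℤ)).obj C)) (i + 1)) :
    V A₀ (DerivedCategory.Q.obj (((eo Λ o).mapHomologicalComplex (ComplexShape.up ℤ)).obj C)) i := by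
  obtain ⟨Z, b, hb, hr⟩ := exists_compl l
  refine V_mid l o A₀ C b hr i ?_ ((V_cb l o' o A₀ C b hr ho i).1 ?_)
  · exact (V_comp l o l A₀ C (by rw [ho, Set.inter_eq_left.2 Set.subset_union_left]) i).2 h1
  · exact V_right l o' A₀ C b hr i ((V_comp l o' x A₀ C hx (i + 1)).2 h3) h2

end mv

section iSup

variable (A₀ : DerivedCategory (EtModW.Mod Λ X)) (C : CochainComplex (EtModW.Mod Λ X) ℤ)

theorem isZero_eo_bot (F : EtModW.Mod Λ X) : IsZero ((eo Λ (⊥ : X.Opens).ι).obj F) :=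
  (((zeroOff_ext (⊥ : X.Opens).ι _).mono (by
    rw [Scheme.Opens.range_ι]; exact subset_rfl) : ZeroOff _ ∅)).isZero

theorem V_bot (i : ℤ) : V A₀ (DerivedCategory.Q.obj
    (((eo Λ (⊥ : X.Opens).ι).mapHomologicalComplex (ComplexShape.up ℤ)).obj C)) i := by
  refine V.of_isZero (DerivedCategory.Q.map_isZero ?_)
  rw [IsZero.iff_id_eq_zero]
  refine HomologicalComplex.hom_ext _ _ fun q => ?_
  exact (isZero_eo_bot (C.X q)).eq_of_src _ _

/-- From affine opens to unions of affine opens. -/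
theorem van_iSup [X.IsSeparated] (O : X.Opens) (n : ℤ)
    (H : ∀ W : X.Opens, IsAffineOpen W → W ≤ O → ∀ i < n, V A₀ (DerivedCategory.Q.obj
      (((eo Λ W.ι).mapHomologicalComplex (ComplexShape.up ℤ)).obj C)) i) (d : ℕ) :
    ∀ (U : Fin d → X.Opens) (_ : ∀ a, IsAffineOpen (U a)) (_ : ∀ a, U a ≤ O) (i : ℤ) (_ : i + d ≤ n),
      V A₀ (DerivedCategory.Q.obj
        (((eo Λ (⨆ a, U a : X.Opens).ι).mapHomologicalComplex (ComplexShape.up ℤ)).obj C)) i := by
  induction d with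
  | zero =>
    intro U hU hUO i hi
    rw [iSup_of_empty]
    exact V_bot A₀ C i
  | succ d ih =>
    intro U hU hUO i hi
    let L : X.Opens := U (Fin.last d)
    let W : X.Opens := ⨆ a : Fin d, U a.castSucc
    have hLW : (⨆ a, U a) = L ⊔ W := by
      apply le_antisymm
      · refine iSup_le fun a => ?_
        refine Fin.lastCases le_sup_left (fun a => ?_) a
        exact le_trans (le_iSup (fun a : Fin d => U a.castSucc) a) le_sup_right
      · exact sup_le (le_iSup U _) (iSup_le fun a => le_iSup U _)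
    rw [hLW]
    have hLO : L ≤ O := hUO _
    have hI : L ⊓ W = ⨆ a : Fin d, L ⊓ U a.castSucc := inf_iSup_eq _ _
    refine mvC L.ι W.ι (L ⊔ W).ι (L ⊓ W).ι A₀ C ?_ ?_ i ?_ ?_ ?_
    · rw [Scheme.Opens.range_ι, Scheme.Opens.range_ι, Scheme.Opens.range_ι,
        TopologicalSpace.Opens.coe_sup]
    · rw [Scheme.Opens.range_ι, Scheme.Opens.range_ι, Scheme.Opens.range_ι,
        TopologicalSpace.Opens.coe_inf]
    · exact H L (hU _) hLO i (by push_cast at hi; omega)
    · exact ih (fun a => U a.castSucc) (fun a => hU _) (fun a => hUO _) i (by push_cast at hi; omega)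
    · rw [hI]
      exact ih (fun a => L ⊓ U a.castSucc) (fun a => (hU _).inf (hU _))
        (fun a => inf_le_left.trans hLO) (i + 1) (by push_cast at hi; omega)

end iSup

end K343.ExtOpen
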