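import Groth.Agent.EtDepth.K343.LefOne
import Groth.Agent.Sga2lef.H134.DimCl

/-!
# The Lefschetz theorem for open neighbourhoods from the vanishing theorem, over a general base

* `concl`: over any base `S'` with `Van S' m`, for `X` separated, `X ⟶ S'` proper, if the dimension of the closure
  of a point does not change when one passes to an affine open subscheme;
* `field`: over a field.
-/

set_option autoImplicit false
universe u

open CategoryTheory CategoryTheory.Limits AlgebraicGeometry Opposite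
attribute [local instance] HasDerivedCategory.standard

namespace K343.LefGen

open K343.LefTri K343.ExtOpen K343.PlusV K343.OpenPush K343.LefOne Groth.Agent.Sga2lef.H134

/-- **The Lefschetz theorem from the vanishing theorem**, general base. -/
theorem concl {S' : Scheme.{u}} (m : ℕ) (hm : 0 < m) (hV : K973.Stmt.Van S' m) {X : Scheme.{u}}
    (g : X ⟶ S') [IsProper g] [hsep : X.IsSeparated]
    (hdim : ∀ (L : X.Opens) (_ : IsAffineOpen L) (u : L), topologicalKrullDim ↥(closure ({u} : Set L)) =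
      topologicalKrullDim ↥(closure ({L.ι u} : Set X)))
    (c : ℕ) (V : Fin (c + 1) → X.Opens) (hVa : ∀ i, IsAffineOpen (V i)) (𝓨 : X.IdealSheafData)
    (hY : (𝓨.support : Set X) = (((⨆ i, V i) : X.Opens) : Set X)ᶜ) (F : EtCoh.Ab X) (hFm : EtCoh.KilledBy m F)
    (hFc : EtPBC.IsConstructible F) (n : ℕ) (W : X.Opens)
    (hd : K973.Stmt.DepthOn F ((⨆ i, V i) ⊓ W) n) : K973.Stmt.Concl 𝓨 F c n W := by
  intro i _ _ hi
  have hm' : NeZero m := ⟨hm.ne'⟩
  obtain ⟨M, ⟨eM⟩⟩ := Groth.Agent.Sga2lef.H252.ModOf.exists_mod F hFm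
  have hfin : Finite (K973.Stmt.Lam.{u} m) := inferInstanceAs (Finite (ULift.{u + 1} (ZMod m)))
  have hMc : EtModW.IsConstructible (K973.Stmt.Lam.{u} m) M :=
    (Groth.Agent.Etcore.LFinite.isConstructible_iff_ab M).2
      (Groth.Agent.EtpbcA.StrataGlob.isConstructible_of_iso eM.symm hFc)
  let Λ := K973.Stmt.Lam.{u} m
  let U : X.Opens := ⨆ a, V a
  have h1 : ∀ L : X.Opens, IsAffineOpen L → L ≤ U → ∀ k < (n : ℤ), Subsingleton (one Λ X ⟶
      ((eo Λ L.ι).rightDerivedFunctorPlus.obj (K973.Stmt.openPush m W M))⟦k⟧) := by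
    intro L hL hLU k hk
    refine affine_step hV g W M hMc L hL n ⟨fun u hu d hdu => ?_⟩ k hk
    let e : (EtCoh.pull L.ι).obj F ≅ (Groth.Agent.Etrest.ModAb.ab Λ L).obj ((EtModW.pull Λ L.ι).obj M) :=
      (EtCoh.pull L.ι).mapIso eM.symm ≪≫ ((Groth.Agent.Etrest.ModAb.pullIso Λ L.ι).app M).symm
    refine DepthAt.DepthAtGE.of_iso e ((DepthAt.depthAtGE_pull_iff L.ι F u _).2
      (hd.out _ ⟨hLU u.2, hu⟩ d ?_))
    rw [← hdu]
    exact (hdim L hL u).symm
  have h2 := union_step W.ι ((EtModW.pull Λ W.ι).obj M) (one Λ X) U n (c + 1) h1 V hVa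
    (fun a => le_iSup V a)
  have hr : (U : Set X) = (Set.range 𝓨.subschemeι)ᶜ := by
    rw [Scheme.IdealSheafData.range_subschemeι, hY, compl_compl]
  have hic : IsClosedImmersion i := by
    have : IsClosedImmersion (i ≫ W.ι) := by rw [hi]; infer_instance
    exact IsClosedImmersion.of_comp i W.ι
  have hU : ((W.ι ⁻¹ᵁ U : W.toScheme.Opens) : Set W) = (Set.range i.base)ᶜ := by
    ext y
    have h3 : W.ι y ∈ (U : Set X) ↔ W.ι y ∉ Set.range 𝓨.subschemeι := by rw [hr]; rfl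
    refine h3.trans (not_congr ⟨?_, ?_⟩)
    · rintro ⟨z, hz⟩
      refine ⟨z, W.ι.injective ?_⟩
      rw [← hz, ← hi]
      rfl
    · rintro ⟨z, rfl⟩
      refine ⟨z, ?_⟩
      rw [← hi]
      rfl
  have eW : (Groth.Agent.Etrest.ModAb.ab Λ W).obj ((EtModW.pull Λ W.ι).obj M) ≅ (EtCoh.pull W.ι).obj F :=
    (Groth.Agent.Etrest.ModAb.pullIso Λ W.ι).app M ≪≫ (EtCoh.pull W.ι).mapIso eM
  have key : ∀ k : ℕ, k + c + 1 ≤ n → Subsingleton (EtCoh.H W
      (OpenExt.ext (W.ι ⁻¹ᵁ U) ((EtCoh.pull W.ι).obj F)) k) := by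
    intro k hk
    have h4 := push_step W U 𝓨.subschemeι i hi hr ((EtModW.pull Λ W.ι).obj M) k
      (h2 k (by push_cast; omega))
    obtain ⟨e⟩ := nonempty_ab_eo (W.ι ⁻¹ᵁ U) ((EtModW.pull Λ W.ι).obj M) _ eW
    exact Groth.Agent.Sga5.ShriekMV.subsingleton_H_of_iso e k (subsingleton_H _ k h4)
  constructor
  · intro k hk
    exact OpenExt.bijective_Hpull i _ hU _ k (key k (by omega)) (key (k + 1) (by omega))
  · intro k hk
    exact OpenExt.injective_Hpull i _ hU _ k (key k (by omega))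

/-- **The Lefschetz theorem from the vanishing theorem**, over a field. -/
theorem field (k : Type u) [Field k] (m : ℕ) (hm : 0 < m)
    (hV' : K973.Stmt.Van (Spec (CommRingCat.of k)) m) (X : Scheme.{u}) (f : X ⟶ Spec (CommRingCat.of k))
    [IsProper f] (c : ℕ) (V : Fin (c + 1) → X.Opens) (hV : ∀ i, IsAffineOpen (V i)) (𝓨 : X.IdealSheafData)
    (hY : (𝓨.support : Set X) = (((⨆ i, V i) : X.Opens) : Set X)ᶜ) (F : EtCoh.Ab X)
    (hFm : EtCoh.KilledBy m F) (hFc : EtPBC.IsConstructible F) (n : ℕ)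
    (hdepth : ∀ u : X, u ∈ (⨆ i, V i) → ∀ d : ℕ,
      topologicalKrullDim ↥(closure ({u} : Set X)) = (d : WithBot ℕ∞) → EtDepth.DepthAtGE X F u (n - d))
    (W : X.Opens) (i : 𝓨.subscheme ⟶ (W : Scheme.{u})) [EtCoh.BCCont i]
    [PreservesFiniteLimits (EtCoh.pull i)] (hi : i ≫ W.ι = 𝓨.subschemeι) :
    (∀ q : ℕ, q + c + 1 < n → Function.Bijective (EtCore.Hpull i ((EtCoh.pull W.ι).obj F) q)) ∧
      (∀ q : ℕ, q + c + 1 = n → Function.Injective (EtCore.Hpull i ((EtCoh.pull W.ι).obj F) q)) := by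
  have hsep : X.IsSeparated := by
    have h0 : terminal.from X = f ≫ terminal.from _ := Subsingleton.elim _ _
    constructor
    rw [h0]
    infer_instance
  exact concl m hm hV' f (fun L _ u => DimCl.dim_closure_preimmersion f L.ι u) c V hV 𝓨 hY F hFm hFc n W
    ⟨fun u hu d hd => hdepth u hu.1 d hd⟩ i hi

end K343.LefGen
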