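import Groth.Agent.EtDepth.K343.OpenBack
import Groth.Agent.EtCd.K549.ClosDim
import Groth.Agent.Sga2lef.H134.DepthAt
import Groth.Agent.Sga2lef.H134.OpenExt
import Groth.Agent.Sga2lef.H252.ModOf
import Groth.Agent.Etcore.LFinite
import Groth.Agent.Etcore.LCrit
import Groth.Agent.S4332

/-!
# NODE L1: the Lefschetz theorem from the vanishing theorem

`main : K973.Stmt.NodeL1`.
-/

set_option autoImplicit false
universe u

open CategoryTheory CategoryTheory.Limits AlgebraicGeometry Opposite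
attribute [local instance] HasDerivedCategory.standard

namespace K343.LefOne

open K343.LefTri K343.ExtOpen K343.PlusV K343.OpenPush Groth.Agent.Sga2lef.H134

section dim

open Groth.Agent.CycB.RelDim

variable {A : Type u} [CommRing A] [IsNoetherianRing A] [IsLocalRing A]
  (hA : CAlg.IsUniversallyCatenary A) {X : Scheme.{u}} (p : X ⟶ Spec (CommRingCat.of A))
  [LocallyOfFiniteType p] [QuasiCompact p] (hp : ∀ x, p x ≠ K549.ClosDim.cp A)

include hA hp

/-- The dimension of the closure of a point, off the closed fibre. -/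
theorem exists_dim_closure (x : X) : ∃ a b d : ℕ, ringKrullDim (A ⧸ (p x).asIdeal) = a ∧ rtd p x = b ∧
    topologicalKrullDim ↥(closure ({x} : Set X)) = (d : WithBot ℕ∞) ∧ d + 1 = a + b := by
  obtain ⟨b, hb⟩ := Cardinal.lt_aleph0.1 (rtd_lt_aleph0 p x)
  have hnt : Nontrivial (A ⧸ (p x).asIdeal) := Ideal.Quotient.nontrivial_iff.2 (p x).isPrime.ne_top
  have hloc : IsLocalRing (A ⧸ (p x).asIdeal) := IsLocalRing.of_surjective' (Ideal.Quotient.mk _)
    Ideal.Quotient.mk_surjective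
  obtain ⟨a, ha⟩ : ∃ a : ℕ, ringKrullDim (A ⧸ (p x).asIdeal) = a := by
    have h1 := ringKrullDim_ne_top (R := A ⧸ (p x).asIdeal)
    have h2 := ringKrullDim_ne_bot (R := A ⧸ (p x).asIdeal)
    obtain ⟨e, he⟩ := WithBot.ne_bot_iff_exists.1 h2
    rw [← he] at h1 ⊢
    obtain ⟨a, ha⟩ := ENat.ne_top_iff_exists.1 (fun h => h1 (by rw [h]; rfl) : e ≠ ⊤)
    exact ⟨a, by rw [← ha]; rfl⟩
  obtain ⟨Z, i, hi, hZ, hη, hr⟩ := Groth.Agent.CycA.ClosurePt.exists_closure_subscheme x
  have hg : (i ≫ p) (genericPoint Z) = p x := by rw [Scheme.Hom.comp_apply, hη]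
  have hb' : rtd (i ≫ p) (genericPoint Z) = b := by
    rw [rtd_comp, rtd_eq_zero_of_isPreimmersion i, add_zero, hη]
    exact hb
  have ha' : ringKrullDim (A ⧸ ((i ≫ p) (genericPoint Z)).asIdeal) = a := by
    rw [hg]; exact ha
  obtain ⟨d, hd, e⟩ := (K549.ClosDim.main hA (i ≫ p) a b ha' hb').2 (fun z hz => hp (i z) hz)
  refine ⟨a, b, d, ha, hb, ?_, e⟩
  rw [← hd, ← hr]
  exact (IsHomeomorph.topologicalKrullDim_eq _ i.isEmbedding.toHomeomorph.isHomeomorph).symm

/-- The dimension of the closure of a point in an open subscheme. -/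
theorem dim_closure_open {L : Scheme.{u}} (l : L ⟶ X) [IsOpenImmersion l] [QuasiCompact (l ≫ p)] (x : L) :
    topologicalKrullDim ↥(closure ({x} : Set L)) = topologicalKrullDim ↥(closure ({l x} : Set X)) := by
  obtain ⟨a, b, d, h1, h2, h3, h4⟩ := exists_dim_closure hA p hp (l x)
  obtain ⟨a', b', d', h1', h2', h3', h4'⟩ := exists_dim_closure hA (l ≫ p) (fun y => hp (l y)) x
  have ha : a = a' := by
    have : ((a : ℕ) : WithBot ℕ∞) = (a' : ℕ) := h1.symm.trans h1'
    exact_mod_cast this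
  have hb : b = b' := by
    rw [rtd_comp, rtd_eq_zero_of_isPreimmersion l, add_zero, h2] at h2'
    exact_mod_cast h2'
  rw [h3, h3', show d' = d by omega]

end dim

section coh

variable {Λ : Type (u + 1)} [CommRing Λ] {X : Scheme.{u}}

/-- Cohomology from morphisms in `D^+`. -/
theorem subsingleton_H (G : EtModW.Mod Λ X) (k : ℕ)
    (h : Subsingleton (one Λ X ⟶ ((sg Λ X).obj G)⟦(k : ℤ)⟧)) :
    Subsingleton (EtCoh.H X ((Groth.Agent.Etrest.ModAb.ab Λ X).obj G) k) := by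
  have h1 : V (DerivedCategory.Plus.ι.obj (one Λ X)) (DerivedCategory.Plus.ι.obj ((sg Λ X).obj G)) k :=
    (V_iff _ _ _).2 h
  have h2 : Subsingleton (EtSix.HMod Λ X G k) :=
    (Abelian.Ext.homEquiv (X := EtModW.constMod Λ X Λ) (Y := G) (n := k)).subsingleton_congr.2 h1
  have h3 := Groth.Agent.S4332.result Λ G k
  exact h3.2.subsingleton

/-- The underlying abelian sheaf of `e_U M`. -/
theorem nonempty_ab_eo (U : X.Opens) (M : EtModW.Mod Λ X) (F : EtCoh.Ab X)
    (e : (Groth.Agent.Etrest.ModAb.ab Λ X).obj M ≅ F) :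
    Nonempty ((Groth.Agent.Etrest.ModAb.ab Λ X).obj ((eo Λ U.ι).obj M) ≅ OpenExt.ext U F) :=
  ⟨(Groth.Agent.Sga4h.H299.ExtBC.extAb Λ U.ι).app _ ≪≫
    (EtShriek.extZero U.ι).mapIso ((Groth.Agent.Sga4h.H299.ExtBC.resAb Λ U.ι).app M ≪≫
      (EtShriek.restrAlong U.ι).mapIso e)⟩

end coh

/-- **NODE L1**: the Lefschetz theorem for the open neighbourhood `W` from the vanishing theorem. -/
theorem main : K973.Stmt.NodeL1.{u} := by
  intro A _ _ _ hA m hm hV X g _ c V hVa 𝓨 hY F hFm hFc n W hYW hd i _ _ hi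
  have hm' : NeZero m := ⟨hm.ne'⟩
  obtain ⟨M, ⟨eM⟩⟩ := Groth.Agent.Sga2lef.H252.ModOf.exists_mod F hFm
  have hfin : Finite (K973.Stmt.Lam.{u} m) := inferInstanceAs (Finite (ULift.{u + 1} (ZMod m)))
  have hMc : EtModW.IsConstructible (K973.Stmt.Lam.{u} m) M :=
    (Groth.Agent.Etcore.LFinite.isConstructible_iff_ab M).2
      (Groth.Agent.EtpbcA.StrataGlob.isConstructible_of_iso eM.symm hFc)
  let Λ := K973.Stmt.Lam.{u} m
  let U : X.Opens := ⨆ a, V a
  -- the structure morphism to `Spec A`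
  let S' : (Spec (CommRingCat.of A)).Opens := FEt.puncturedSpec A
  let p : X ⟶ Spec (CommRingCat.of A) := g ≫ S'.ι
  have hN : IsLocallyNoetherian (Spec (CommRingCat.of A)) := inferInstance
  have hp : ∀ x, p x ≠ K549.ClosDim.cp A := fun x => (g x).2
  have hsep : X.IsSeparated := by
    have h0 : terminal.from X = p ≫ terminal.from _ := Subsingleton.elim _ _
    constructor
    rw [h0]
    infer_instance
  have h1 : ∀ L : X.Opens, IsAffineOpen L → L ≤ U → ∀ k < (n : ℤ), Subsingleton (one Λ X ⟶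
      ((eo Λ L.ι).rightDerivedFunctorPlus.obj (K973.Stmt.openPush m W M))⟦k⟧) := by
    intro L hL hLU k hk
    have hLa : IsAffine L := hL
    have hqc : QuasiCompact (L.ι ≫ p) := inferInstance
    refine affine_step hV g W M hMc L hL n ⟨fun u hu d hdu => ?_⟩ k hk
    let e : (EtCoh.pull L.ι).obj F ≅ (Groth.Agent.Etrest.ModAb.ab Λ L).obj ((EtModW.pull Λ L.ι).obj M) :=
      (EtCoh.pull L.ι).mapIso eM.symm ≪≫ ((Groth.Agent.Etrest.ModAb.pullIso Λ L.ι).app M).symm
    refine DepthAt.DepthAtGE.of_iso e ((DepthAt.depthAtGE_pull_iff L.ι F u _).2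
      (hd.out _ ⟨hLU u.2, hu⟩ d ?_))
    rw [← hdu]
    exact (dim_closure_open hA.2.1 p hp L.ι u).symm
  have h2 := union_step W.ι ((EtModW.pull Λ W.ι).obj M) (one Λ X) U n (c + 1) h1 V hVa
    (fun a => le_iSup V a)
  have hr : (U : Set X) = (Set.range 𝓨.subschemeι)ᶜ := by
    rw [Scheme.IdealSheafData.range_subschemeι, hY, compl_compl]
  have hic : IsClosedImmersion i := by
    have : IsClosedImmersion (i ≫ W.ι) := by rw [hi]; infer_instance
    exact IsClosedImmersion.of_comp i W.ι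
  have hU : ((W.ι ⁻¹ᵁ U : W.toScheme.Opens) : Set W) = (Set.range i.base)ᶜ := by
    ext y
    have h3 : W.ι y ∈ (U : Set X) ↔ W.ι y ∉ Set.range 𝓨.subschemeι := by rw [hr]; rfl
    refine h3.trans (not_congr ⟨?_, ?_⟩)
    · rintro ⟨z, hz⟩
      refine ⟨z, W.ι.injective ?_⟩
      rw [← hz, ← hi]
      rfl
    · rintro ⟨z, rfl⟩
      refine ⟨z, ?_⟩
      rw [← hi]
      rfl
  have eW : (Groth.Agent.Etrest.ModAb.ab Λ W).obj ((EtModW.pull Λ W.ι).obj M) ≅ (EtCoh.pull W.ι).obj F :=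
    (Groth.Agent.Etrest.ModAb.pullIso Λ W.ι).app M ≪≫ (EtCoh.pull W.ι).mapIso eM
  have key : ∀ k : ℕ, k + c + 1 ≤ n → Subsingleton (EtCoh.H W
      (OpenExt.ext (W.ι ⁻¹ᵁ U) ((EtCoh.pull W.ι).obj F)) k) := by
    intro k hk
    have h4 := push_step W U 𝓨.subschemeι i hi hr ((EtModW.pull Λ W.ι).obj M) k
      (h2 k (by push_cast; omega))
    obtain ⟨e⟩ := nonempty_ab_eo (W.ι ⁻¹ᵁ U) ((EtModW.pull Λ W.ι).obj M) _ eW
    exact Groth.Agent.Sga5.ShriekMV.subsingleton_H_of_iso e k (subsingleton_H _ k h4)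
  constructor
  · intro k hk
    exact OpenExt.bijective_Hpull i _ hU _ k (key k (by omega)) (key (k + 1) (by omega))
  · intro k hk
    exact OpenExt.injective_Hpull i _ hU _ k (key k (by omega))

end K343.LefOne
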