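import Groth.Agent.EtDepth.K343.OpenPush

/-!
# From `X` back to the open subscheme `W`

* `union_step`: the part on a union of affine open subschemes;
* `push_step`: `Hom(Λ_X, e_U Rκ_* N[i]) = 0` implies `Hom(Λ_W, e_{U ∩ W} N[i]) = 0` if the complement of `U` is
  contained in `W`.
-/

set_option autoImplicit false
universe u

open CategoryTheory CategoryTheory.Limits AlgebraicGeometry Opposite
attribute [local instance] HasDerivedCategory.standard

namespace K343.OpenPush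

open Groth.Agent.Sga4h.ModRestr Groth.Agent.Sga4h.EtaleRes Groth.Agent.Etdl.H424
  K343.LefTri K343.ExtOpen K343.PlusV

variable {Λ : Type (u + 1)} [CommRing Λ] {X : Scheme.{u}}

attribute [local instance] jCont

section union

variable {W : Scheme.{u}} (κ : W ⟶ X) (N : EtModW.Mod Λ W) (A₀ : DerivedCategory.Plus (EtModW.Mod Λ X))

/-- From affine opens to unions of affine opens. -/
theorem union_step [X.IsSeparated] (O : X.Opens) (n : ℤ) (d : ℕ)
    (H : ∀ L : X.Opens, IsAffineOpen L → L ≤ O → ∀ i < n, Subsingleton (A₀ ⟶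
      ((eo Λ L.ι).rightDerivedFunctorPlus.obj ((EtDl.pushPlus Λ κ).obj ((sg Λ W).obj N)))⟦i⟧))
    (U : Fin d → X.Opens) (hU : ∀ a, IsAffineOpen (U a)) (hUO : ∀ a, U a ≤ O) (i : ℤ) (hi : i + d ≤ n) :
    Subsingleton (A₀ ⟶ ((eo Λ (⨆ a, U a : X.Opens).ι).rightDerivedFunctorPlus.obj
      ((EtDl.pushPlus Λ κ).obj ((sg Λ W).obj N)))⟦i⟧) := by
  obtain ⟨J, φ, hφ, hJ, e⟩ := exists_inj N
  exact (V_exact_iff κ N J hJ e (eo Λ (⨆ a, U a : X.Opens).ι) A₀ i).1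
    (van_iSup (DerivedCategory.Plus.ι.obj A₀) _ O n (fun L hL hLO i hi =>
      (V_exact_iff κ N J hJ e (eo Λ L.ι) A₀ i).2 (H L hL hLO i hi)) d U hU hUO i hi)

end union

section back

variable (W U : X.Opens)

/-- `e_U Rκ_* (e_{U ∩ W} N) ≅ e_U Rκ_* N`. -/
theorem isIso_eoP_map (N : EtModW.Mod Λ W) :
    IsIso ((eo Λ U.ι).rightDerivedFunctorPlus.map ((EtDl.pushPlus Λ W.ι).map
      ((sg Λ W).map ((ε Λ (W.ι ⁻¹ᵁ U).ι).app N)))) := by
  let φ := (ε Λ (W.ι ⁻¹ᵁ U).ι).app N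
  have h0 : IsIso ((res Λ (W.ι ⁻¹ᵁ U).ι).map φ) :=
    Groth.Agent.Sga4h.X144Shr.isIso_res_counit Λ (W.ι ⁻¹ᵁ U).ι N
  have h0' : IsIso ((res Λ (W.ι ⁻¹ᵁ U).ι ⋙ sg Λ _).map φ) :=
    Functor.map_isIso (sg Λ _) ((res Λ (W.ι ⁻¹ᵁ U).ι).map φ)
  have h1 : IsIso ((res Λ (W.ι ⁻¹ᵁ U).ι).rightDerivedFunctorPlus.map ((sg Λ W).map φ)) :=
    (NatIso.isIso_map_iff (Groth.Agent.Etdl.H860.HSg.singleExact (res Λ (W.ι ⁻¹ᵁ U).ι)) φ).2 h0'
  have hp := (isPullback_morphismRestrict W.ι U).flip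
  have h2' : IsIso (((res Λ (W.ι ⁻¹ᵁ U).ι).rightDerivedFunctorPlus ⋙ EtDl.pushPlus Λ (W.ι ∣_ U)).map
      ((sg Λ W).map φ)) :=
    Functor.map_isIso (EtDl.pushPlus Λ (W.ι ∣_ U))
      ((res Λ (W.ι ⁻¹ᵁ U).ι).rightDerivedFunctorPlus.map ((sg Λ W).map φ))
  have h2 : IsIso ((res Λ U.ι).rightDerivedFunctorPlus.map ((EtDl.pushPlus Λ W.ι).map ((sg Λ W).map φ))) :=
    (NatIso.isIso_map_iff (bcP Λ W.ι U.ι (W.ι ⁻¹ᵁ U).ι (W.ι ∣_ U) hp) ((sg Λ W).map φ)).2 h2'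
  have h3' : IsIso (((res Λ U.ι).rightDerivedFunctorPlus ⋙ EtDl.extZeroPlus Λ U.ι).map
      ((EtDl.pushPlus Λ W.ι).map ((sg Λ W).map φ))) :=
    Functor.map_isIso (EtDl.extZeroPlus Λ U.ι) _
  exact (NatIso.isIso_map_iff (eoP Λ U.ι) ((EtDl.pushPlus Λ W.ι).map ((sg Λ W).map φ))).2 h3'

variable {Z : Scheme.{u}} (b : Z ⟶ X) [IsClosedImmersion b] (b' : Z ⟶ W.toScheme) (hb : b' ≫ W.ι = b)

/-- `b^* κ_* ≅ b'^*` -/
noncomputable def pushPull : EtModW.push Λ W.ι ⋙ EtModW.pull Λ b ≅ EtModW.pull Λ b' :=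
  Functor.isoWhiskerLeft (EtModW.push Λ W.ι)
      ((Groth.Agent.Etcore.LPullComp.pullCongr Λ hb.symm) ≪≫
        (Groth.Agent.Etcore.LPullComp.pullComp Λ b' W.ι).symm ≪≫
        Functor.isoWhiskerRight (Groth.Agent.Sga4h.H299.ExtBC.resPull Λ W.ι) (EtModW.pull Λ b')) ≪≫
    (Functor.associator _ _ _).symm ≪≫
    Functor.isoWhiskerRight (asIso (resPushAdj Λ W.ι).counit) (EtModW.pull Λ b') ≪≫
    Functor.leftUnitor _

include hb in
/-- `b_* b^* κ_* J` is acyclic for a resolution `J` of a sheaf `G` with `b'^* G = 0`. -/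
theorem isZero_cb (G : EtModW.Mod Λ W) (hG : IsZero ((EtModW.pull Λ b').obj G))
    (J : CochainComplex.Plus (EtModW.Mod Λ W))
    (φ : (HomologicalComplex.single (EtModW.Mod Λ W) (ComplexShape.up ℤ) 0).obj G ⟶ J.obj) (hφ : QuasiIso φ) :
    IsZero (DerivedCategory.Q.obj (((cb Λ b).mapHomologicalComplex (ComplexShape.up ℤ)).obj
      (((EtModW.push Λ W.ι).mapHomologicalComplex (ComplexShape.up ℤ)).obj J.obj))) := by
  have i1 : PreservesFiniteColimits (EtModW.push Λ b) :=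
    Groth.Agent.Etdl.H425.SecSupp.preservesFiniteColimits_push Λ b
  have i2 : PreservesFiniteLimits (EtModW.pull Λ b') :=
    Groth.Agent.Etrest.ModCons.preservesFiniteLimits_pull b'
  have h1 : IsZero (DerivedCategory.Q.obj (((EtModW.pull Λ b').mapHomologicalComplex
      (ComplexShape.up ℤ)).obj J.obj)) := by
    have h2 : QuasiIso (((EtModW.pull Λ b').mapHomologicalComplex (ComplexShape.up ℤ)).map φ) :=
      inferInstance
    have h3 := (DerivedCategory.isIso_Q_map_iff_quasiIso _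
      (((EtModW.pull Λ b').mapHomologicalComplex (ComplexShape.up ℤ)).map φ)).2 h2
    refine IsZero.of_iso ?_ (@asIso _ _ _ _ _ h3).symm
    refine DerivedCategory.Q.map_isZero ?_
    exact (((HomologicalComplex.single _ (ComplexShape.up ℤ) 0).map_isZero hG)).of_iso
      ((HomologicalComplex.singleMapHomologicalComplex (EtModW.pull Λ b') (ComplexShape.up ℤ) 0).app G)
  have h2 : IsZero (DerivedCategory.Q.obj (((EtModW.push Λ W.ι ⋙ EtModW.pull Λ b).mapHomologicalComplex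
      (ComplexShape.up ℤ)).obj J.obj)) :=
    h1.of_iso (DerivedCategory.Q.mapIso
      ((NatIso.mapHomologicalComplex (pushPull W b b' hb) (ComplexShape.up ℤ)).app J.obj))
  exact ((EtModW.push Λ b).mapDerivedCategory.map_isZero h2).of_iso
    ((EtModW.push Λ b).mapDerivedCategoryFactors.app
      (((EtModW.push Λ W.ι ⋙ EtModW.pull Λ b).mapHomologicalComplex (ComplexShape.up ℤ)).obj J.obj)).symm

include hb in
/-- Back to `W`. -/
theorem push_step (hr : (U : Set X) = (Set.range b)ᶜ) (N : EtModW.Mod Λ W) (i : ℤ)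
    (h : Subsingleton (one Λ X ⟶ ((eo Λ U.ι).rightDerivedFunctorPlus.obj
      ((EtDl.pushPlus Λ W.ι).obj ((sg Λ W).obj N)))⟦i⟧)) :
    Subsingleton (one Λ W ⟶ ((sg Λ W).obj ((eo Λ (W.ι ⁻¹ᵁ U).ι).obj N))⟦i⟧) := by
  let G := (eo Λ (W.ι ⁻¹ᵁ U).ι).obj N
  have h0 := isIso_eoP_map W U N
  have h1 : Subsingleton (one Λ X ⟶ ((eo Λ U.ι).rightDerivedFunctorPlus.obj
      ((EtDl.pushPlus Λ W.ι).obj ((sg Λ W).obj G)))⟦i⟧) :=
    subsingleton_of_iso (Iso.refl _) (@asIso _ _ _ _ _ h0).symm i h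
  obtain ⟨J, φ, hφ, hJ, e⟩ := exists_inj G
  have h2 := (V_exact_iff W.ι G J hJ e (eo Λ U.ι) (one Λ X) i).2 h1
  have hG : IsZero ((EtModW.pull Λ b').obj G) := by
    refine isZero_pull_ext (W.ι ⁻¹ᵁ U).ι _ b' fun z hz => ?_
    rw [Scheme.Opens.range_ι] at hz
    have h4 : b z ∈ (U : Set X) := by
      rw [← hb]
      exact hz
    rw [hr] at h4
    exact h4 ⟨z, rfl⟩
  have h3 : V (DerivedCategory.Plus.ι.obj (one Λ X)) (DerivedCategory.Q.obj
      (((cb Λ b).mapHomologicalComplex (ComplexShape.up ℤ)).obj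
      (((EtModW.push Λ W.ι).mapHomologicalComplex (ComplexShape.up ℤ)).obj J.obj))) i :=
    V.of_isZero (isZero_cb W b b' hb G hG J φ hφ)
  have hr' : Set.range U.ι = (Set.range b)ᶜ := by rw [Scheme.Opens.range_ι, hr]
  have h4 := mid_of_ses (scOf_shortExact (ε Λ U.ι) (ηb Λ b) (fun F => exc_zero U.ι b hr' F)
    (((EtModW.push Λ W.ι).mapHomologicalComplex (ComplexShape.up ℤ)).obj J.obj)
    (fun q => shortExact_exc U.ι b hr' _)) h2 h3
  have h5 := (V_push_iff W.ι G J hJ e (one Λ X) i).1 h4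
  have h6 := (subsingleton_adj (PullPushPlus.adj Λ W.ι) (one Λ X) ((sg Λ W).obj G) i).2 h5
  exact subsingleton_of_iso (pullOne Λ W.ι) (Iso.refl _) i h6

end back

end K343.OpenPush
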