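import Groth.Agent.EtDepth.K343.Tri
import Groth.Agent.Etdl.H424.PlusAdj
import Groth.Agent.Etdl.H860.RDTri
import Groth.Agent.FibDesc.K417.FF
import Mathlib.CategoryTheory.Shift.Adjunction

/-!
# Vanishing of `Hom(A₀, K[i])` in bounded below derived categories

* `V_iff`: vanishing in `D^+` and in `D`;
* `exists_inj`: resolution of `N[0]` by a complex of injective objects;
* `nonempty_rder`: the derived functor of a left exact functor on complexes of injective objects;
* `nonempty_exact`: the derived functor of an exact functor;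
* `subsingleton_adj`: derived adjunction.
-/

set_option autoImplicit false

universe w w' v v' u u'

open CategoryTheory CategoryTheory.Limits

noncomputable section

namespace K343.PlusV

open K343.LefTri Groth.Agent.Etdl.H424 Groth.Agent.Etdl.H860

variable {A : Type u} [Category.{v} A] [Abelian A] [HasDerivedCategory.{w} A]
  {B : Type u'} [Category.{v'} B] [Abelian B] [HasDerivedCategory.{w'} B]

theorem V_iff (A₀ K : DerivedCategory.Plus A) (i : ℤ) :
    V (DerivedCategory.Plus.ι.obj A₀) (DerivedCategory.Plus.ι.obj K) i ↔ Subsingleton (A₀ ⟶ K⟦i⟧) :=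
  (((DerivedCategory.TStructure.t.plus.fullyFaithfulι.homEquiv (X := A₀) (Y := K⟦i⟧)).trans
    ((((DerivedCategory.Plus.ι (C := A)).commShiftIso i).app K).homToEquiv)).subsingleton_congr).symm

/-- Resolution of `N[0]` by a complex of injective objects. -/
theorem exists_inj [EnoughInjectives A] (N : A) : ∃ (J : CochainComplex.Plus A)
    (φ : (HomologicalComplex.single A (ComplexShape.up ℤ) 0).obj N ⟶ J.obj), QuasiIso φ ∧
      (∀ q, Injective (J.obj.X q)) ∧
      Nonempty ((DerivedCategory.Plus.singleFunctor A 0).obj N ≅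
        DerivedCategory.Plus.Qh.obj ((HomotopyCategory.Plus.quotient A).obj J)) := by
  obtain ⟨I, φ, hφ, hI, hI0⟩ := CochainComplex.Plus.modelCategoryQuillen.exists_quasiIso_injective
    ((HomologicalComplex.single A (ComplexShape.up ℤ) 0).obj N) 0
  let J : CochainComplex.Plus A := ⟨I, ⟨0, hI0⟩⟩
  let φ₀ : K417.FF.sngl N ⟶ J := ObjectProperty.homMk φ
  have h1 : IsIso (DerivedCategory.Plus.Qh.map ((HomotopyCategory.Plus.quotient A).map φ₀)) :=
    (K417.FF.quasiIso_iff_isIso φ₀).1 hφ
  exact ⟨J, φ, hφ, hI, ⟨K417.FF.snglIso N ≪≫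
    @asIso _ _ _ _ (DerivedCategory.Plus.Qh.map ((HomotopyCategory.Plus.quotient A).map φ₀)) h1⟩⟩

/-- The derived functor of a left exact functor on complexes of injective objects. -/
theorem nonempty_rder [EnoughInjectives A] (F : A ⥤ B) [F.Additive] [PreservesFiniteLimits F]
    (J : CochainComplex.Plus A) (hJ : ∀ q, Injective (J.obj.X q)) :
    Nonempty (DerivedCategory.Plus.ι.obj (F.rightDerivedFunctorPlus.obj
      (DerivedCategory.Plus.Qh.obj ((HomotopyCategory.Plus.quotient A).obj J))) ≅
        DerivedCategory.Q.obj ((F.mapHomologicalComplex (ComplexShape.up ℤ)).obj J.obj)) := by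
  have h2 : IsIso (F.rightDerivedFunctorPlusUnit.app ((HomotopyCategory.Plus.quotient A).obj J)) := by
    refine Groth.Agent.Cohder.RDPlusAcyc.isIso_unit_app F J fun m i hi => ?_
    obtain ⟨j, rfl⟩ : ∃ j, i = j + 1 := ⟨i - 1, by lia⟩
    have := hJ m
    exact Functor.isZero_rightDerived_obj_injective_succ F j (J.obj.X m)
  exact ⟨(DerivedCategory.Plus.ι.mapIso (@asIso _ _ _ _
    (F.rightDerivedFunctorPlusUnit.app ((HomotopyCategory.Plus.quotient A).obj J)) h2)).symm ≪≫
    ((DerivedCategory.quotientCompQhIso B).app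
      ((F.mapHomologicalComplex (ComplexShape.up ℤ)).obj J.obj) :)⟩

/-- The derived functor of an exact functor. -/
theorem nonempty_exact [EnoughInjectives A] (F : A ⥤ B) [F.Additive] [PreservesFiniteLimits F]
    [PreservesFiniteColimits F] (K : DerivedCategory.Plus A) (C : CochainComplex A ℤ)
    (e : Nonempty (DerivedCategory.Plus.ι.obj K ≅ DerivedCategory.Q.obj C)) :
    Nonempty (DerivedCategory.Plus.ι.obj (F.rightDerivedFunctorPlus.obj K) ≅
      DerivedCategory.Q.obj ((F.mapHomologicalComplex (ComplexShape.up ℤ)).obj C)) := by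
  obtain ⟨e⟩ := e
  exact ⟨(K417.FF.plusIso F).app K ≪≫ F.mapDerivedCategory.mapIso e ≪≫ F.mapDerivedCategoryFactors.app C⟩

/-- Vanishing and isomorphisms. -/
theorem subsingleton_of_iso {C : Type u} [Category.{v} C] [HasShift C ℤ] {A₀ A₀' K K' : C} (e₀ : A₀ ≅ A₀')
    (e : K ≅ K') (i : ℤ) (h : Subsingleton (A₀ ⟶ K⟦i⟧)) : Subsingleton (A₀' ⟶ K'⟦i⟧) :=
  (Iso.homCongr e₀ ((shiftFunctor C i).mapIso e)).subsingleton_congr.1 h

/-- Derived adjunction. -/
theorem subsingleton_adj [EnoughInjectives A] [EnoughInjectives B] {F : A ⥤ B} {G : B ⥤ A} [F.Additive]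
    [G.Additive] (adj : F.rightDerivedFunctorPlus ⊣ G.rightDerivedFunctorPlus)
    (A₀ : DerivedCategory.Plus A) (K : DerivedCategory.Plus B) (i : ℤ) :
    Subsingleton (F.rightDerivedFunctorPlus.obj A₀ ⟶ K⟦i⟧) ↔
      Subsingleton (A₀ ⟶ (G.rightDerivedFunctorPlus.obj K)⟦i⟧) :=
  ((adj.homEquiv A₀ (K⟦i⟧)).trans
    ((G.rightDerivedFunctorPlus.commShiftIso i).app K).homToEquiv).subsingleton_congr

end K343.PlusV

end
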