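import Groth.Agent.EtDepth.K343.ExtOpen
import Groth.Agent.EtDepth.K343.PlusV
import Groth.Agent.EtDepth.K973.Stmt
import Groth.Agent.EtDl.K593.BCPlus
import Groth.Agent.Etdl.H860.HSg
import Groth.Agent.Etdl.H425.SecSupp
import Groth.Agent.Etcore.LCrit
import Groth.Prelude.Def_SixF2

/-!
# Direct image from an open subscheme on `D^+`

* `bcP`: base change for `Rκ_*` and restriction to an open subscheme;
* `affine_step`: the vanishing theorem `Van` for an affine open subscheme;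
* `union_step`: the part on a union of affine open subschemes;
* `push_step`: back to the open subscheme.
-/

set_option autoImplicit false
universe u

open CategoryTheory CategoryTheory.Limits AlgebraicGeometry Opposite
attribute [local instance] HasDerivedCategory.standard

namespace K343.OpenPush

open Groth.Agent.Sga4h.ModRestr Groth.Agent.Sga4h.EtaleRes Groth.Agent.Etdl.H424
  K343.LefTri K343.ExtOpen K343.PlusV

variable (Λ : Type (u + 1)) [CommRing Λ]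

attribute [local instance] jCont

/-- `N[0]` -/
noncomputable abbrev sg (X : Scheme.{u}) : EtModW.Mod Λ X ⥤ DerivedCategory.Plus (EtModW.Mod Λ X) :=
  DerivedCategory.Plus.singleFunctor _ 0

/-- `Λ_X[0]` -/
noncomputable abbrev one (X : Scheme.{u}) : DerivedCategory.Plus (EtModW.Mod Λ X) :=
  (sg Λ X).obj (EtModW.constMod Λ X Λ)

section

variable {W' L W X : Scheme.{u}}

/-- Base change for `Rκ_*` and restriction to an open subscheme. -/
noncomputable def bcP (κ : W ⟶ X) (l : L ⟶ X) [Etale l] (j' : W' ⟶ W) [Etale j'] (κ' : W' ⟶ L)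
    (h : IsPullback j' κ' κ l) :
    EtDl.pushPlus Λ κ ⋙ (res Λ l).rightDerivedFunctorPlus ≅
      (res Λ j').rightDerivedFunctorPlus ⋙ EtDl.pushPlus Λ κ' :=
  K593.BCPlus.exactComp (EtModW.push Λ κ) (res Λ l) (res Λ j' ⋙ EtModW.push Λ κ')
      (Groth.Agent.Sga4h.H299.ExtBC.resPush Λ l κ j' κ' h).symm ≪≫
    (PlusAdj.compIso (res Λ j') (EtModW.push Λ κ') (res Λ j' ⋙ EtModW.push Λ κ') (Iso.refl _)
      (fun I hI i hi => by
        obtain ⟨n, rfl⟩ : ∃ n, i = n + 1 := ⟨i - 1, by lia⟩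
        have := injective_res Λ j' I
        exact Functor.isZero_rightDerived_obj_injective_succ _ n _)).symm

/-- `j_! j^*` on `D^+` -/
noncomputable def eoP (l : L ⟶ X) [IsOpenImmersion l] : (eo Λ l).rightDerivedFunctorPlus ≅
    (res Λ l).rightDerivedFunctorPlus ⋙ EtDl.extZeroPlus Λ l :=
  (K593.BCPlus.exactComp (res Λ l) (EtDl.extZeroMod Λ l) (eo Λ l) (Iso.refl _)).symm

/-- The inverse image of the constant sheaf. -/
noncomputable def pullOne (f : X ⟶ L) : (EtModW.pull Λ f).rightDerivedFunctorPlus.obj (one Λ L) ≅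
    one Λ X :=
  (Groth.Agent.Etdl.H860.HSg.singleExact (EtModW.pull Λ f)).app (EtModW.constMod Λ L Λ) ≪≫
    (sg Λ X).mapIso (EtSix.pullConstΛ Λ f)

end

section affine

variable {m : ℕ} {S' X : Scheme.{u}}

/-- `Rκ_* κ^* M` restricted to an open subscheme. -/
theorem nonempty_res_openPush (W L : X.Opens) (M : EtModW.Mod (K973.Stmt.Lam.{u} m) X) :
    Nonempty ((res (K973.Stmt.Lam.{u} m) L.ι).rightDerivedFunctorPlus.obj (K973.Stmt.openPush m W M) ≅
      K973.Stmt.openPush m (L.ι ⁻¹ᵁ W) ((EtModW.pull (K973.Stmt.Lam.{u} m) L.ι).obj M)) := by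
  let Λ := K973.Stmt.Lam.{u} m
  let N := (EtModW.pull Λ W.ι).obj M
  have h := isPullback_morphismRestrict L.ι W
  let e₁ := (bcP Λ W.ι L.ι (L.ι ∣_ W) (L.ι ⁻¹ᵁ W).ι h).app ((sg Λ W).obj N)
  let e₂ : (res Λ (L.ι ∣_ W)).rightDerivedFunctorPlus.obj ((sg Λ W).obj N) ≅
      (sg Λ _).obj ((res Λ (L.ι ∣_ W)).obj N) :=
    (Groth.Agent.Etdl.H860.HSg.singleExact (res Λ (L.ι ∣_ W))).app N
  let e₃ : (res Λ (L.ι ∣_ W)).obj N ≅ (EtModW.pull Λ (L.ι ⁻¹ᵁ W).ι).obj ((EtModW.pull Λ L.ι).obj M) :=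
    (Groth.Agent.Sga4h.H299.ExtBC.resPull Λ (L.ι ∣_ W)).symm.app N ≪≫
      (Groth.Agent.Etcore.LPullComp.pullComp Λ (L.ι ∣_ W) W.ι).app M ≪≫
      (Groth.Agent.Etcore.LPullComp.pullCongr Λ h.w).app M ≪≫
      ((Groth.Agent.Etcore.LPullComp.pullComp Λ (L.ι ⁻¹ᵁ W).ι L.ι).app M).symm
  exact ⟨e₁ ≪≫ (EtDl.pushPlus Λ (L.ι ⁻¹ᵁ W).ι).mapIso (e₂ ≪≫ (sg Λ _).mapIso e₃)⟩

/-- The vanishing theorem for an affine open subscheme. -/
theorem affine_step (hV : K973.Stmt.Van S' m) (g : X ⟶ S') [IsProper g] (W : X.Opens)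
    (M : EtModW.Mod (K973.Stmt.Lam.{u} m) X) (hM : EtModW.IsConstructible (K973.Stmt.Lam.{u} m) M)
    (L : X.Opens) (hL : IsAffineOpen L) (n : ℕ)
    (hd : K973.Stmt.DepthOn ((EtModD.forgetToAb (K973.Stmt.Lam.{u} m) L).obj
      ((EtModW.pull (K973.Stmt.Lam.{u} m) L.ι).obj M)) (L.ι ⁻¹ᵁ W) n) (i : ℤ) (hi : i < n) :
    Subsingleton (one (K973.Stmt.Lam.{u} m) X ⟶
      ((eo (K973.Stmt.Lam.{u} m) L.ι).rightDerivedFunctorPlus.obj (K973.Stmt.openPush m W M))⟦i⟧) := by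
  let Λ := K973.Stmt.Lam.{u} m
  have hLa : IsAffine L := hL
  let c : DEt.Compactification (L.ι ≫ g) := ⟨X, L.ι, g, inferInstance, inferInstance, rfl⟩
  have h1 := (hV (L.ι ≫ g) c (L.ι ⁻¹ᵁ W) ((EtModW.pull Λ L.ι).obj M)
    (Groth.Agent.Etcore.LCrit.isConstructible_pull L.ι M hM) n hd).out i hi
  have h2 := (subsingleton_adj (PullPushPlus.adj Λ g) (one Λ S') ((EtDl.extZeroPlus Λ L.ι).obj
    (K973.Stmt.openPush m (L.ι ⁻¹ᵁ W) ((EtModW.pull Λ L.ι).obj M))) i).2 h1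
  obtain ⟨e⟩ := nonempty_res_openPush W L M
  exact subsingleton_of_iso (pullOne Λ g)
    ((eoP Λ L.ι).app _ ≪≫ (EtDl.extZeroPlus Λ L.ι).mapIso e).symm i h2

end affine

section complex

variable {Λ} {W X : Scheme.{u}} (κ : W ⟶ X) (N : EtModW.Mod Λ W)
  (J : CochainComplex.Plus (EtModW.Mod Λ W)) (hJ : ∀ q, Injective (J.obj.X q))
  (e : Nonempty ((sg Λ W).obj N ≅ DerivedCategory.Plus.Qh.obj ((HomotopyCategory.Plus.quotient _).obj J)))

include hJ e

/-- The derived direct image of a resolution. -/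
theorem nonempty_push : Nonempty (DerivedCategory.Plus.ι.obj ((EtDl.pushPlus Λ κ).obj ((sg Λ W).obj N)) ≅
    DerivedCategory.Q.obj (((EtModW.push Λ κ).mapHomologicalComplex (ComplexShape.up ℤ)).obj J.obj)) := by
  obtain ⟨e⟩ := e
  obtain ⟨e'⟩ := nonempty_rder (EtModW.push Λ κ) J hJ
  exact ⟨DerivedCategory.Plus.ι.mapIso ((EtDl.pushPlus Λ κ).mapIso e) ≪≫ e'⟩

theorem V_push_iff (A₀ : DerivedCategory.Plus (EtModW.Mod Λ X)) (i : ℤ) :
    V (DerivedCategory.Plus.ι.obj A₀) (DerivedCategory.Q.obj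
      (((EtModW.push Λ κ).mapHomologicalComplex (ComplexShape.up ℤ)).obj J.obj)) i ↔
    Subsingleton (A₀ ⟶ ((EtDl.pushPlus Λ κ).obj ((sg Λ W).obj N))⟦i⟧) := by
  obtain ⟨e'⟩ := nonempty_push κ N J hJ e
  rw [← V_iff]
  exact ⟨V.of_iso e'.symm, V.of_iso e'⟩

theorem V_exact_iff (F : EtModW.Mod Λ X ⥤ EtModW.Mod Λ X) [F.Additive] [PreservesFiniteLimits F]
    [PreservesFiniteColimits F] (A₀ : DerivedCategory.Plus (EtModW.Mod Λ X)) (i : ℤ) :
    V (DerivedCategory.Plus.ι.obj A₀) (DerivedCategory.Q.obj ((F.mapHomologicalComplex (ComplexShape.up ℤ)).obj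
      (((EtModW.push Λ κ).mapHomologicalComplex (ComplexShape.up ℤ)).obj J.obj))) i ↔
    Subsingleton (A₀ ⟶ (F.rightDerivedFunctorPlus.obj ((EtDl.pushPlus Λ κ).obj ((sg Λ W).obj N)))⟦i⟧) := by
  obtain ⟨e'⟩ := nonempty_exact F _ _ (nonempty_push κ N J hJ e)
  rw [← V_iff]
  exact ⟨V.of_iso e'.symm, V.of_iso e'⟩

end complex

end K343.OpenPush
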