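import Mathlib.Algebra.Homology.DerivedCategory.ShortExact
import Mathlib.Algebra.Homology.DerivedCategory.ExactFunctor
import Mathlib.Algebra.Homology.HomologicalComplexAbelian
import Mathlib.Algebra.Homology.DerivedCategory.Plus

/-!
# Vanishing of `Hom(A₀, K[i])` in a derived category

* `V A₀ K i`: every morphism `A₀ ⟶ K⟦i⟧` is zero;
* `V.mid`, `V.right`: two out of three in distinguished triangles;
* `mid_of_ses`, `right_of_ses`: the same for short exact sequences of complexes;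
* `sesOf`: the short exact sequence of complexes from natural transformations of functors.
-/

set_option autoImplicit false

universe w w' v v' u u'

open CategoryTheory CategoryTheory.Limits Pretriangulated

namespace K343.LefTri

variable {A : Type u} [Category.{v} A] [Abelian A] [HasDerivedCategory.{w} A]

/-- `Hom(A₀, K[i]) = 0`. -/
def V (A₀ K : DerivedCategory A) (i : ℤ) : Prop := Subsingleton (A₀ ⟶ K⟦i⟧)

section

variable {A₀ : DerivedCategory A} {i : ℤ}

theorem V.of_forall {K : DerivedCategory A} (h : ∀ x : A₀ ⟶ K⟦i⟧, x = 0) : V A₀ K i :=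
  subsingleton_of_forall_eq 0 h

theorem V.eq_zero {K : DerivedCategory A} (h : V A₀ K i) (x : A₀ ⟶ K⟦i⟧) : x = 0 :=
  h.elim _ _

theorem V.of_iso {K L : DerivedCategory A} (e : K ≅ L) (h : V A₀ K i) : V A₀ L i := by
  refine V.of_forall fun x => ?_
  have h1 : x ≫ e.inv⟦i⟧' = 0 := h.eq_zero _
  rw [← cancel_mono (e.inv⟦i⟧'), h1, zero_comp]

theorem V.of_iso_left {A₀' : DerivedCategory A} (e : A₀ ≅ A₀') {K : DerivedCategory A} (h : V A₀ K i) :
    V A₀' K i := by
  refine V.of_forall fun x => ?_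
  have h1 : e.hom ≫ x = 0 := h.eq_zero _
  rw [← cancel_epi e.hom, h1, comp_zero]

theorem V.of_isZero {K : DerivedCategory A} (h : IsZero K) : V A₀ K i :=
  V.of_forall fun _ => ((shiftFunctor _ i).map_isZero h).eq_of_tgt _ _

theorem V.mid {T : Triangle (DerivedCategory A)} (hT : T ∈ distTriang _) (h1 : V A₀ T.obj₁ i)
    (h3 : V A₀ T.obj₃ i) : V A₀ T.obj₂ i := by
  refine V.of_forall fun x => ?_
  obtain ⟨y, hy⟩ := Triangle.coyoneda_exact₂ _ (Triangle.shift_distinguished T hT i) x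
    (h3.eq_zero _)
  have hy0 : y = 0 := h1.eq_zero y
  rw [hy, hy0, zero_comp]
  rfl

theorem V.right {T : Triangle (DerivedCategory A)} (hT : T ∈ distTriang _) (h2 : V A₀ T.obj₂ i)
    (h1 : V A₀ T.obj₁ (i + 1)) : V A₀ T.obj₃ i := by
  refine V.of_forall fun x => ?_
  have h0 : ∀ z : A₀ ⟶ (T.obj₁⟦i⟧)⟦(1 : ℤ)⟧, z = 0 := fun z => by
    have h4 : z ≫ (shiftFunctorAdd' (DerivedCategory A) i 1 (i + 1) rfl).inv.app T.obj₁ = 0 :=
      h1.eq_zero _
    rw [← cancel_mono ((shiftFunctorAdd' (DerivedCategory A) i 1 (i + 1) rfl).inv.app T.obj₁), h4,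
      zero_comp]
  obtain ⟨y, hy⟩ := Triangle.coyoneda_exact₃ _ (Triangle.shift_distinguished T hT i) x (h0 _)
  have hy0 : y = 0 := h2.eq_zero y
  rw [hy, hy0, zero_comp]
  rfl

theorem mid_of_ses {S : ShortComplex (CochainComplex A ℤ)} (hS : S.ShortExact)
    (h1 : V A₀ (DerivedCategory.Q.obj S.X₁) i) (h3 : V A₀ (DerivedCategory.Q.obj S.X₃) i) :
    V A₀ (DerivedCategory.Q.obj S.X₂) i :=
  V.mid (DerivedCategory.triangleOfSES_distinguished hS) h1 h3

theorem right_of_ses {S : ShortComplex (CochainComplex A ℤ)} (hS : S.ShortExact)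
    (h2 : V A₀ (DerivedCategory.Q.obj S.X₂) i) (h1 : V A₀ (DerivedCategory.Q.obj S.X₁) (i + 1)) :
    V A₀ (DerivedCategory.Q.obj S.X₃) i :=
  V.right (DerivedCategory.triangleOfSES_distinguished hS) h2 h1

end

section

variable {B : Type u'} [Category.{v'} B] [Abelian B]
  {F₁ F₂ F₃ : A ⥤ B} [F₁.PreservesZeroMorphisms] [F₂.PreservesZeroMorphisms]
  [F₃.PreservesZeroMorphisms] (α : F₁ ⟶ F₂) (β : F₂ ⟶ F₃) (w : ∀ X, α.app X ≫ β.app X = 0)

/-- The short complex of complexes attached to `F₁ ⟶ F₂ ⟶ F₃`. -/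
noncomputable def scOf (C : CochainComplex A ℤ) : ShortComplex (CochainComplex B ℤ) :=
  ShortComplex.mk
    (((NatTrans.mapHomologicalComplex α (ComplexShape.up ℤ)).app C))
    (((NatTrans.mapHomologicalComplex β (ComplexShape.up ℤ)).app C))
    (by
      ext q
      exact w (C.X q))

omit [HasDerivedCategory.{w} A] in
theorem scOf_shortExact (C : CochainComplex A ℤ)
    (h : ∀ q, (ShortComplex.mk (α.app (C.X q)) (β.app (C.X q)) (w (C.X q))).ShortExact) :
    (scOf α β w C).ShortExact :=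
  HomologicalComplex.shortExact_of_degreewise_shortExact _ fun q => h q

/-- A natural transformation which is an isomorphism at the terms of a complex. -/
noncomputable def isoOf {A' : Type*} [Category A'] [Abelian A'] {G₁ G₂ : A' ⥤ B} [G₁.PreservesZeroMorphisms]
    [G₂.PreservesZeroMorphisms] (γ : G₁ ⟶ G₂) (C : CochainComplex A' ℤ)
    (h : ∀ q, IsIso (γ.app (C.X q))) :
    (G₁.mapHomologicalComplex (ComplexShape.up ℤ)).obj C ≅
      (G₂.mapHomologicalComplex (ComplexShape.up ℤ)).obj C :=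
  have : ∀ q, IsIso (((NatTrans.mapHomologicalComplex γ (ComplexShape.up ℤ)).app C).f q) := h
  have := HomologicalComplex.Hom.isIso_of_components
    ((NatTrans.mapHomologicalComplex γ (ComplexShape.up ℤ)).app C)
  asIso ((NatTrans.mapHomologicalComplex γ (ComplexShape.up ℤ)).app C)

theorem V.of_natTrans {A' : Type*} [Category A'] [Abelian A'] [HasDerivedCategory.{w'} B]
    {G₁ G₂ : A' ⥤ B} [G₁.PreservesZeroMorphisms]
    [G₂.PreservesZeroMorphisms] (γ : G₁ ⟶ G₂) (C : CochainComplex A' ℤ)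
    (h : ∀ q, IsIso (γ.app (C.X q))) (A₀ : DerivedCategory B) (i : ℤ) :
    V A₀ (DerivedCategory.Q.obj ((G₁.mapHomologicalComplex (ComplexShape.up ℤ)).obj C)) i ↔
    V A₀ (DerivedCategory.Q.obj ((G₂.mapHomologicalComplex (ComplexShape.up ℤ)).obj C)) i :=
  ⟨V.of_iso (DerivedCategory.Q.mapIso (isoOf γ C h)),
    V.of_iso (DerivedCategory.Q.mapIso (isoOf γ C h).symm)⟩

end

end K343.LefTri
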